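import Cfsg.Agent.Lib.H34.TCO7D.Data
import Cfsg.Agent.Lib.H35.TC
set_option autoImplicit false
set_option maxRecDepth 100000
set_option linter.all false
namespace H34.TCO7D
open H35.TC
/-- letters -/
inductive Lt | b | c | d | e | f | h | i | w | u | ui
  deriving DecidableEq
/-- inverse letter -/
def inv : Lt → Lt
  | .b => .b
  | .c => .c
  | .d => .d
  | .e => .e
  | .f => .f
  | .h => .h
  | .i => .i
  | .w => .w
  | .u => .ui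
  | .ui => .u
/-- table functions -/
noncomputable def T : Lt → ℕ → ℕ
  | .b => T_b
  | .c => T_c
  | .d => T_d
  | .e => T_e
  | .f => T_f
  | .h => T_h
  | .i => T_i
  | .w => T_w
  | .u => T_u
  | .ui => T_ui
/-- decoding of letter codes -/
def lt : ℕ → Lt
  | 0 => .b
  | 1 => .c
  | 2 => .d
  | 3 => .e
  | 4 => .f
  | 5 => .h
  | 6 => .i
  | 7 => .w
  | 8 => .u
  | _ => .ui
/-- Coxeter matrix (0: no relation) -/
def mm : Lt → Lt → ℕ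
  | .b, .b => 1
  | .b, .c => 3
  | .b, .w => 2
  | .c, .b => 3
  | .c, .c => 1
  | .c, .d => 3
  | .c, .w => 2
  | .d, .c => 3
  | .d, .d => 1
  | .d, .e => 3
  | .d, .h => 3
  | .d, .w => 2
  | .e, .d => 3
  | .e, .e => 1
  | .e, .f => 3
  | .e, .w => 2
  | .f, .e => 3
  | .f, .f => 1
  | .f, .w => 2
  | .h, .d => 3
  | .h, .h => 1
  | .h, .i => 3
  | .h, .w => 2
  | .i, .h => 3
  | .i, .i => 1
  | .i, .w => 2
  | .w, .b => 2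
  | .w, .c => 2
  | .w, .d => 2
  | .w, .e => 2
  | .w, .f => 2
  | .w, .h => 2
  | .w, .i => 2
  | .w, .w => 1
  | _, _ => 0
/-- extra relators `w ^ n` -/
def extra : List (List Lt × ℕ) := [
  ([.u, .i, .ui, .i], 1),
  ([.w, .u, .w, .ui], 1),
  ([.u, .b, .ui, .b], 1),
  ([.u, .c, .ui, .c], 1),
  ([.u, .d, .ui, .d], 1),
  ([.u, .e, .ui, .e], 1),
  ([.u, .f, .ui, .f], 1),
  ([.u, .h, .ui, .h], 1),
  ([.i, .f, .i, .f, .w], 1),
  ([.h, .f, .h, .f, .w], 1),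
  ([.h, .e, .h, .e, .w], 1),
  ([.d, .b, .d, .b, .w], 1),
  ([.e, .b, .e, .b, .w], 1),
  ([.f, .b, .f, .b, .w], 1),
  ([.h, .b, .h, .b, .w], 1),
  ([.i, .b, .i, .b, .w], 1),
  ([.e, .c, .e, .c, .w], 1),
  ([.f, .c, .f, .c, .w], 1),
  ([.h, .c, .h, .c, .w], 1),
  ([.i, .c, .i, .c, .w], 1),
  ([.d, .f, .d, .f, .w], 1),
  ([.i, .d, .i, .d, .w], 1),
  ([.i, .e, .i, .e, .w], 1),
  ([.u], 8),
  ([.d, .c, .b, .d, .e, .f, .d, .h, .i, .d, .c, .b, .d, .e, .f, .d, .h, .i, .d, .c, .b, .d, .e, .f, .d, .h, .i, .d, .c, .b, .d, .e, .f, .d, .h, .i, .d, .c, .b, .d, .e, .f, .d, .h, .i, .d, .c, .b, .d, .e, .f, .d, .h, .i, .d, .c, .b, .d, .e, .f, .d, .h, .i, .d, .c, .b, .d, .e, .f, .d, .h, .i, .d, .c, .b, .d, .e, .f, .d, .h, .i, .d, .c, .b, .d, .e, .f, .d, .h, .i, .ui], 1),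
  ([.u, .ui], 1),
  ([.ui, .u], 1)]
/-- relators -/
def rels : List (List Lt) := mkRels [(.w, .b), (.w, .c), (.w, .d), (.w, .e), (.w, .f), (.w, .h), (.w, .i), (.d, .e), (.d, .h), (.e, .f), (.c, .d), (.h, .i), (.b, .c), (.b, .b), (.c, .c), (.d, .d), (.e, .e), (.f, .f), (.h, .h), (.i, .i), (.w, .w)] mm extra
/-- subgroup words -/
def subs : List (List Lt) := [
  [.b],
  [.c],
  [.d],
  [.e],
  [.f],
  [.h]]
noncomputable def dp_b_0 (j u : ℕ) : Bool :=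
  Bool.rec (motive := fun _ => Bool) (lF [T_h, T_b, T_w, T_h] M (Nat.sub (T_b u) (Nat.mod (T_b u) M)) (Nat.mod (T_b u) M) u) (lF [T_w, T_i, T_b, T_i] M (Nat.sub (T_b u) (Nat.mod (T_b u) M)) (Nat.mod (T_b u) M) u) (Nat.ble (nat_lit 4) j)
noncomputable def dp_b_1 (j u : ℕ) : Bool :=
  Bool.rec (motive := fun _ => Bool) (lDef P (nat_lit 0) (Nat.mod (T_b u) M) u) (lDef P (nat_lit 0) u (Nat.mod (T_b u) M)) (Nat.ble (nat_lit 6) j)
noncomputable def dp_b_2 (j u : ℕ) : Bool :=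
  Bool.rec (motive := fun _ => Bool) (lF [T_i, T_b, T_w, T_i] M (Nat.sub (T_b u) (Nat.mod (T_b u) M)) (Nat.mod (T_b u) M) u) (lF [T_d, T_b, T_w, T_d] M (Nat.sub (T_b u) (Nat.mod (T_b u) M)) (Nat.mod (T_b u) M) u) (Nat.ble (nat_lit 8) j)
noncomputable def dp_b_3 (j u : ℕ) : Bool :=
  Bool.rec (motive := fun _ => Bool) (dp_b_1 j u) (dp_b_2 j u) (Nat.ble (nat_lit 7) j)
noncomputable def dp_b_4 (j u : ℕ) : Bool :=
  Bool.rec (motive := fun _ => Bool) (lF [T_f, T_b, T_w, T_f] M (Nat.sub (T_b u) (Nat.mod (T_b u) M)) (Nat.mod (T_b u) M) u) (lF [T_w, T_e, T_b, T_e] M (Nat.sub (T_b u) (Nat.mod (T_b u) M)) (Nat.mod (T_b u) M) u) (Nat.ble (nat_lit 10) j)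
noncomputable def dp_b_5 (j u : ℕ) : Bool :=
  Bool.rec (motive := fun _ => Bool) (lF [T_w, T_h, T_b, T_h] M (Nat.sub (T_b u) (Nat.mod (T_b u) M)) (Nat.mod (T_b u) M) u) (lF [T_w, T_d, T_b, T_d] M (Nat.sub (T_b u) (Nat.mod (T_b u) M)) (Nat.mod (T_b u) M) u) (Nat.ble (nat_lit 12) j)
noncomputable def dp_b_6 (j u : ℕ) : Bool :=
  Bool.rec (motive := fun _ => Bool) (lF [T_c, T_b, T_c, T_b, T_c] M (Nat.sub (T_b u) (Nat.mod (T_b u) M)) (Nat.mod (T_b u) M) u) (lH [] [] M (Nat.sub (T_b u) (Nat.mod (T_b u) M)) (Nat.mod (T_b u) M) u) (Nat.ble (nat_lit 16) j)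
noncomputable def dp_b_7 (j u : ℕ) : Bool :=
  Bool.rec (motive := fun _ => Bool) (lF [T_w, T_f, T_b, T_f] M (Nat.sub (T_b u) (Nat.mod (T_b u) M)) (Nat.mod (T_b u) M) u) (dp_b_6 j u) (Nat.ble (nat_lit 15) j)
noncomputable def dp_b_8 (j u : ℕ) : Bool :=
  Bool.rec (motive := fun _ => Bool) (lF [T_e, T_b, T_w, T_e] M (Nat.sub (T_b u) (Nat.mod (T_b u) M)) (Nat.mod (T_b u) M) u) (dp_b_7 j u) (Nat.ble (nat_lit 14) j)
noncomputable def dp_b_9 (j u : ℕ) : Bool :=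
  Bool.rec (motive := fun _ => Bool) (dp_b_5 j u) (dp_b_8 j u) (Nat.ble (nat_lit 13) j)
noncomputable def dp_b_10 (j u : ℕ) : Bool :=
  Bool.rec (motive := fun _ => Bool) (dp_b_4 j u) (dp_b_9 j u) (Nat.ble (nat_lit 11) j)
noncomputable def dp_b_11 (j u : ℕ) : Bool :=
  Bool.rec (motive := fun _ => Bool) (dp_b_3 j u) (dp_b_10 j u) (Nat.ble (nat_lit 9) j)
noncomputable def dp_b_12 (j u : ℕ) : Bool :=
  Bool.rec (motive := fun _ => Bool) (Bool.rec (motive := fun _ => Bool) (lF3 T_u T_b T_ui M (Nat.sub (T_b u) (Nat.mod (T_b u) M)) (Nat.mod (T_b u) M) u) (dp_b_0 j u) (Nat.ble (nat_lit 3) j)) (dp_b_11 j u) (Nat.ble (nat_lit 5) j)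
noncomputable def disp_b (j u : ℕ) : Bool :=
  Bool.rec (motive := fun _ => Bool) (Bool.rec (motive := fun _ => Bool) (lF1 T_b M (Nat.sub (T_b u) (Nat.mod (T_b u) M)) (Nat.mod (T_b u) M) u) (lF3 T_ui T_b T_u M (Nat.sub (T_b u) (Nat.mod (T_b u) M)) (Nat.mod (T_b u) M) u) (Nat.ble (nat_lit 1) j)) (dp_b_12 j u) (Nat.ble (nat_lit 2) j)
noncomputable def chk_b (j u : ℕ) : Bool :=
  Bool.rec (motive := fun _ => Bool) (disp_b j u) (Nat.ble (Nat.succ (MG u)) A) (Nat.ble A (T_b u))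
noncomputable def dp_c_0 (j u : ℕ) : Bool :=
  Bool.rec (motive := fun _ => Bool) (lF [T_w, T_i, T_c, T_i] M (Nat.sub (T_c u) (Nat.mod (T_c u) M)) (Nat.mod (T_c u) M) u) (lDef P (nat_lit 1) (Nat.mod (T_c u) M) u) (Nat.ble (nat_lit 4) j)
noncomputable def dp_c_1 (j u : ℕ) : Bool :=
  Bool.rec (motive := fun _ => Bool) (lF [T_w, T_h, T_c, T_h] M (Nat.sub (T_c u) (Nat.mod (T_c u) M)) (Nat.mod (T_c u) M) u) (lF [T_w, T_e, T_c, T_e] M (Nat.sub (T_c u) (Nat.mod (T_c u) M)) (Nat.mod (T_c u) M) u) (Nat.ble (nat_lit 7) j)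
noncomputable def dp_c_2 (j u : ℕ) : Bool :=
  Bool.rec (motive := fun _ => Bool) (lF [T_h, T_c, T_w, T_h] M (Nat.sub (T_c u) (Nat.mod (T_c u) M)) (Nat.mod (T_c u) M) u) (lF [T_w, T_f, T_c, T_f] M (Nat.sub (T_c u) (Nat.mod (T_c u) M)) (Nat.mod (T_c u) M) u) (Nat.ble (nat_lit 9) j)
noncomputable def dp_c_3 (j u : ℕ) : Bool :=
  Bool.rec (motive := fun _ => Bool) (lF [T_i, T_c, T_w, T_i] M (Nat.sub (T_c u) (Nat.mod (T_c u) M)) (Nat.mod (T_c u) M) u) (lF [T_d, T_c, T_d, T_c, T_d] M (Nat.sub (T_c u) (Nat.mod (T_c u) M)) (Nat.mod (T_c u) M) u) (Nat.ble (nat_lit 11) j)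
noncomputable def dp_c_4 (j u : ℕ) : Bool :=
  Bool.rec (motive := fun _ => Bool) (lF [T_e, T_c, T_w, T_e] M (Nat.sub (T_c u) (Nat.mod (T_c u) M)) (Nat.mod (T_c u) M) u) (lH [] [] M (Nat.sub (T_c u) (Nat.mod (T_c u) M)) (Nat.mod (T_c u) M) u) (Nat.ble (nat_lit 15) j)
noncomputable def dp_c_5 (j u : ℕ) : Bool :=
  Bool.rec (motive := fun _ => Bool) (lF [T_b, T_c, T_b, T_c, T_b] M (Nat.sub (T_c u) (Nat.mod (T_c u) M)) (Nat.mod (T_c u) M) u) (dp_c_4 j u) (Nat.ble (nat_lit 14) j)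
noncomputable def dp_c_6 (j u : ℕ) : Bool :=
  Bool.rec (motive := fun _ => Bool) (lF [T_f, T_c, T_w, T_f] M (Nat.sub (T_c u) (Nat.mod (T_c u) M)) (Nat.mod (T_c u) M) u) (dp_c_5 j u) (Nat.ble (nat_lit 13) j)
noncomputable def dp_c_7 (j u : ℕ) : Bool :=
  Bool.rec (motive := fun _ => Bool) (dp_c_3 j u) (dp_c_6 j u) (Nat.ble (nat_lit 12) j)
noncomputable def dp_c_8 (j u : ℕ) : Bool :=
  Bool.rec (motive := fun _ => Bool) (dp_c_2 j u) (dp_c_7 j u) (Nat.ble (nat_lit 10) j)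
noncomputable def dp_c_9 (j u : ℕ) : Bool :=
  Bool.rec (motive := fun _ => Bool) (Bool.rec (motive := fun _ => Bool) (lDef P (nat_lit 1) u (Nat.mod (T_c u) M)) (dp_c_1 j u) (Nat.ble (nat_lit 6) j)) (dp_c_8 j u) (Nat.ble (nat_lit 8) j)
noncomputable def dp_c_10 (j u : ℕ) : Bool :=
  Bool.rec (motive := fun _ => Bool) (Bool.rec (motive := fun _ => Bool) (lF3 T_u T_c T_ui M (Nat.sub (T_c u) (Nat.mod (T_c u) M)) (Nat.mod (T_c u) M) u) (dp_c_0 j u) (Nat.ble (nat_lit 3) j)) (dp_c_9 j u) (Nat.ble (nat_lit 5) j)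
noncomputable def disp_c (j u : ℕ) : Bool :=
  Bool.rec (motive := fun _ => Bool) (Bool.rec (motive := fun _ => Bool) (lF3 T_ui T_c T_u M (Nat.sub (T_c u) (Nat.mod (T_c u) M)) (Nat.mod (T_c u) M) u) (lF1 T_c M (Nat.sub (T_c u) (Nat.mod (T_c u) M)) (Nat.mod (T_c u) M) u) (Nat.ble (nat_lit 1) j)) (dp_c_10 j u) (Nat.ble (nat_lit 2) j)
noncomputable def chk_c (j u : ℕ) : Bool :=
  Bool.rec (motive := fun _ => Bool) (disp_c j u) (Nat.ble (Nat.succ (MG u)) A) (Nat.ble A (T_c u))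
noncomputable def dp_d_0 (j u : ℕ) : Bool :=
  Bool.rec (motive := fun _ => Bool) (lF [T_b, T_w, T_d, T_b] M (Nat.sub (T_d u) (Nat.mod (T_d u) M)) (Nat.mod (T_d u) M) u) (lF [T_e, T_d, T_e, T_d, T_e] M (Nat.sub (T_d u) (Nat.mod (T_d u) M)) (Nat.mod (T_d u) M) u) (Nat.ble (nat_lit 8) j)
noncomputable def dp_d_1 (j u : ℕ) : Bool :=
  Bool.rec (motive := fun _ => Bool) (lH [] [] M (Nat.sub (T_d u) (Nat.mod (T_d u) M)) (Nat.mod (T_d u) M) u) (lF [T_f, T_d, T_f, T_w] M (Nat.sub (T_d u) (Nat.mod (T_d u) M)) (Nat.mod (T_d u) M) u) (Nat.ble (nat_lit 13) j)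
noncomputable def dp_d_2 (j u : ℕ) : Bool :=
  Bool.rec (motive := fun _ => Bool) (lF [T_i, T_d, T_w, T_i] M (Nat.sub (T_d u) (Nat.mod (T_d u) M)) (Nat.mod (T_d u) M) u) (dp_d_1 j u) (Nat.ble (nat_lit 12) j)
noncomputable def dp_d_3 (j u : ℕ) : Bool :=
  Bool.rec (motive := fun _ => Bool) (lF [T_h, T_d, T_h, T_d, T_h] M (Nat.sub (T_d u) (Nat.mod (T_d u) M)) (Nat.mod (T_d u) M) u) (dp_d_2 j u) (Nat.ble (nat_lit 11) j)
noncomputable def dp_d_4 (j u : ℕ) : Bool :=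
  Bool.rec (motive := fun _ => Bool) (lF [T_c, T_d, T_c, T_d, T_c] M (Nat.sub (T_d u) (Nat.mod (T_d u) M)) (Nat.mod (T_d u) M) u) (dp_d_3 j u) (Nat.ble (nat_lit 10) j)
noncomputable def dp_d_5 (j u : ℕ) : Bool :=
  Bool.rec (motive := fun _ => Bool) (dp_d_0 j u) (dp_d_4 j u) (Nat.ble (nat_lit 9) j)
noncomputable def dp_d_6 (j u : ℕ) : Bool :=
  Bool.rec (motive := fun _ => Bool) (lF [T_f, T_w, T_d, T_f] M (Nat.sub (T_d u) (Nat.mod (T_d u) M)) (Nat.mod (T_d u) M) u) (dp_d_5 j u) (Nat.ble (nat_lit 7) j)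
noncomputable def dp_d_7 (j u : ℕ) : Bool :=
  Bool.rec (motive := fun _ => Bool) (Bool.rec (motive := fun _ => Bool) (lDef P (nat_lit 2) u (Nat.mod (T_d u) M)) (lF [T_w, T_i, T_d, T_i] M (Nat.sub (T_d u) (Nat.mod (T_d u) M)) (Nat.mod (T_d u) M) u) (Nat.ble (nat_lit 5) j)) (dp_d_6 j u) (Nat.ble (nat_lit 6) j)
noncomputable def disp_d (j u : ℕ) : Bool :=
  Bool.rec (motive := fun _ => Bool) (Bool.rec (motive := fun _ => Bool) (lF3 T_ui T_d T_u M (Nat.sub (T_d u) (Nat.mod (T_d u) M)) (Nat.mod (T_d u) M) u) (lF1 T_d M (Nat.sub (T_d u) (Nat.mod (T_d u) M)) (Nat.mod (T_d u) M) u) (Nat.ble (nat_lit 1) j)) (Bool.rec (motive := fun _ => Bool) (Bool.rec (motive := fun _ => Bool) (lF3 T_u T_d T_ui M (Nat.sub (T_d u) (Nat.mod (T_d u) M)) (Nat.mod (T_d u) M) u) (lDef P (nat_lit 2) (Nat.mod (T_d u) M) u) (Nat.ble (nat_lit 3) j)) (dp_d_7 j u) (Nat.ble (nat_lit 4)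 j)) (Nat.ble (nat_lit 2) j)
noncomputable def chk_d (j u : ℕ) : Bool :=
  Bool.rec (motive := fun _ => Bool) (disp_d j u) (Nat.ble (Nat.succ (MG u)) A) (Nat.ble A (T_d u))
noncomputable def dp_e_0 (j u : ℕ) : Bool :=
  Bool.rec (motive := fun _ => Bool) (lF [T_w, T_h, T_e, T_h] M (Nat.sub (T_e u) (Nat.mod (T_e u) M)) (Nat.mod (T_e u) M) u) (lF [T_b, T_w, T_e, T_b] M (Nat.sub (T_e u) (Nat.mod (T_e u) M)) (Nat.mod (T_e u) M) u) (Nat.ble (nat_lit 7) j)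
noncomputable def dp_e_1 (j u : ℕ) : Bool :=
  Bool.rec (motive := fun _ => Bool) (lF [T_i, T_e, T_w, T_i] M (Nat.sub (T_e u) (Nat.mod (T_e u) M)) (Nat.mod (T_e u) M) u) (lF [T_c, T_w, T_e, T_c] M (Nat.sub (T_e u) (Nat.mod (T_e u) M)) (Nat.mod (T_e u) M) u) (Nat.ble (nat_lit 9) j)
noncomputable def dp_e_2 (j u : ℕ) : Bool :=
  Bool.rec (motive := fun _ => Bool) (lF [T_f, T_e, T_f, T_e, T_f] M (Nat.sub (T_e u) (Nat.mod (T_e u) M)) (Nat.mod (T_e u) M) u) (lH [] [] M (Nat.sub (T_e u) (Nat.mod (T_e u) M)) (Nat.mod (T_e u) M) u) (Nat.ble (nat_lit 13) j)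
noncomputable def dp_e_3 (j u : ℕ) : Bool :=
  Bool.rec (motive := fun _ => Bool) (lF [T_d, T_e, T_d, T_e, T_d] M (Nat.sub (T_e u) (Nat.mod (T_e u) M)) (Nat.mod (T_e u) M) u) (dp_e_2 j u) (Nat.ble (nat_lit 12) j)
noncomputable def dp_e_4 (j u : ℕ) : Bool :=
  Bool.rec (motive := fun _ => Bool) (lF [T_h, T_e, T_w, T_h] M (Nat.sub (T_e u) (Nat.mod (T_e u) M)) (Nat.mod (T_e u) M) u) (dp_e_3 j u) (Nat.ble (nat_lit 11) j)
noncomputable def dp_e_5 (j u : ℕ) : Bool :=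
  Bool.rec (motive := fun _ => Bool) (dp_e_1 j u) (dp_e_4 j u) (Nat.ble (nat_lit 10) j)
noncomputable def dp_e_6 (j u : ℕ) : Bool :=
  Bool.rec (motive := fun _ => Bool) (Bool.rec (motive := fun _ => Bool) (lDef P (nat_lit 3) u (Nat.mod (T_e u) M)) (lF [T_w, T_i, T_e, T_i] M (Nat.sub (T_e u) (Nat.mod (T_e u) M)) (Nat.mod (T_e u) M) u) (Nat.ble (nat_lit 5) j)) (Bool.rec (motive := fun _ => Bool) (dp_e_0 j u) (dp_e_5 j u) (Nat.ble (nat_lit 8) j)) (Nat.ble (nat_lit 6) j)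
noncomputable def disp_e (j u : ℕ) : Bool :=
  Bool.rec (motive := fun _ => Bool) (Bool.rec (motive := fun _ => Bool) (lF3 T_ui T_e T_u M (Nat.sub (T_e u) (Nat.mod (T_e u) M)) (Nat.mod (T_e u) M) u) (lF1 T_e M (Nat.sub (T_e u) (Nat.mod (T_e u) M)) (Nat.mod (T_e u) M) u) (Nat.ble (nat_lit 1) j)) (Bool.rec (motive := fun _ => Bool) (Bool.rec (motive := fun _ => Bool) (lF3 T_u T_e T_ui M (Nat.sub (T_e u) (Nat.mod (T_e u) M)) (Nat.mod (T_e u) M) u) (lDef P (nat_lit 3) (Nat.mod (T_e u) M) u) (Nat.ble (nat_lit 3) j)) (dp_e_6 j u) (Nat.ble (nat_lit 4) j)) (Nat.ble (nat_lit 2) j)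
noncomputable def chk_e (j u : ℕ) : Bool :=
  Bool.rec (motive := fun _ => Bool) (disp_e j u) (Nat.ble (Nat.succ (MG u)) A) (Nat.ble A (T_e u))
noncomputable def dp_f_0 (j u : ℕ) : Bool :=
  Bool.rec (motive := fun _ => Bool) (lF [T_w, T_h, T_f, T_h] M (Nat.sub (T_f u) (Nat.mod (T_f u) M)) (Nat.mod (T_f u) M) u) (lF [T_c, T_w, T_f, T_c] M (Nat.sub (T_f u) (Nat.mod (T_f u) M)) (Nat.mod (T_f u) M) u) (Nat.ble (nat_lit 6) j)
noncomputable def dp_f_1 (j u : ℕ) : Bool :=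
  Bool.rec (motive := fun _ => Bool) (lF [T_w, T_d, T_f, T_d] M (Nat.sub (T_f u) (Nat.mod (T_f u) M)) (Nat.mod (T_f u) M) u) (lF [T_i, T_f, T_w, T_i] M (Nat.sub (T_f u) (Nat.mod (T_f u) M)) (Nat.mod (T_f u) M) u) (Nat.ble (nat_lit 9) j)
noncomputable def dp_f_2 (j u : ℕ) : Bool :=
  Bool.rec (motive := fun _ => Bool) (lF [T_b, T_w, T_f, T_b] M (Nat.sub (T_f u) (Nat.mod (T_f u) M)) (Nat.mod (T_f u) M) u) (dp_f_1 j u) (Nat.ble (nat_lit 8) j)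
noncomputable def dp_f_3 (j u : ℕ) : Bool :=
  Bool.rec (motive := fun _ => Bool) (lH [] [] M (Nat.sub (T_f u) (Nat.mod (T_f u) M)) (Nat.mod (T_f u) M) u) (lF [T_d, T_h, T_i, T_d, T_c, T_b, T_d, T_e, T_f, T_d, T_h, T_i, T_d, T_c, T_b, T_d, T_e, T_f, T_d, T_h, T_i, T_d, T_c, T_b, T_d, T_e, T_f, T_d, T_h, T_i, T_d, T_c, T_b, T_d, T_e, T_f, T_d, T_h, T_i, T_d, T_c, T_b, T_d, T_e, T_f, T_d, T_h, T_i, T_d, T_c, T_b, T_d, T_e, T_f, T_d, T_h, T_i, T_d, T_c, T_b, T_d, T_e, T_f, T_d, T_h, T_i, T_d, T_c, T_b, T_d, T_e, T_f, T_d, T_h, T_i, T_d, T_c, T_b, T_d, T_e, T_f, T_d, T_h, T_i, T_ui, T_d, T_c, T_b, T_d, T_e] M (Nat.sub (T_f u) (Nat.mod (T_f u) M)) (Nat.mod (T_f u) M) u) (Nat.ble (nat_lit 15) j)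
noncomputable def dp_f_4 (j u : ℕ) : Bool :=
  Bool.rec (motive := fun _ => Bool) (lF [T_e, T_f, T_e, T_f, T_e] M (Nat.sub (T_f u) (Nat.mod (T_f u) M)) (Nat.mod (T_f u) M) u) (dp_f_3 j u) (Nat.ble (nat_lit 14) j)
noncomputable def dp_f_5 (j u : ℕ) : Bool :=
  Bool.rec (motive := fun _ => Bool) (lF [T_d, T_f, T_w, T_d] M (Nat.sub (T_f u) (Nat.mod (T_f u) M)) (Nat.mod (T_f u) M) u) (dp_f_4 j u) (Nat.ble (nat_lit 13) j)
noncomputable def dp_f_6 (j u : ℕ) : Bool :=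
  Bool.rec (motive := fun _ => Bool) (lF [T_h, T_f, T_w, T_h] M (Nat.sub (T_f u) (Nat.mod (T_f u) M)) (Nat.mod (T_f u) M) u) (dp_f_5 j u) (Nat.ble (nat_lit 12) j)
noncomputable def dp_f_7 (j u : ℕ) : Bool :=
  Bool.rec (motive := fun _ => Bool) (lF [T_w, T_i, T_f, T_i] M (Nat.sub (T_f u) (Nat.mod (T_f u) M)) (Nat.mod (T_f u) M) u) (dp_f_6 j u) (Nat.ble (nat_lit 11) j)
noncomputable def dp_f_8 (j u : ℕ) : Bool :=
  Bool.rec (motive := fun _ => Bool) (dp_f_2 j u) (dp_f_7 j u) (Nat.ble (nat_lit 10) j)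
noncomputable def dp_f_9 (j u : ℕ) : Bool :=
  Bool.rec (motive := fun _ => Bool) (Bool.rec (motive := fun _ => Bool) (lDef P (nat_lit 4) u (Nat.mod (T_f u) M)) (dp_f_0 j u) (Nat.ble (nat_lit 5) j)) (dp_f_8 j u) (Nat.ble (nat_lit 7) j)
noncomputable def disp_f (j u : ℕ) : Bool :=
  Bool.rec (motive := fun _ => Bool) (Bool.rec (motive := fun _ => Bool) (lF1 T_f M (Nat.sub (T_f u) (Nat.mod (T_f u) M)) (Nat.mod (T_f u) M) u) (lF3 T_ui T_f T_u M (Nat.sub (T_f u) (Nat.mod (T_f u) M)) (Nat.mod (T_f u) M) u) (Nat.ble (nat_lit 1) j)) (Bool.rec (motive := fun _ => Bool) (Bool.rec (motive := fun _ => Bool) (lF3 T_u T_f T_ui M (Nat.sub (T_f u) (Nat.mod (T_f u) M)) (Nat.mod (T_f u) M) u) (lDef P (nat_lit 4) (Nat.mod (T_f u) M) u) (Nat.ble (nat_lit 3) j)) (dp_f_9 j u) (Nat.ble (nat_lit 4) j)) (Nat.ble (nat_lit 2) j)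
noncomputable def chk_f (j u : ℕ) : Bool :=
  Bool.rec (motive := fun _ => Bool) (disp_f j u) (Nat.ble (Nat.succ (MG u)) A) (Nat.ble A (T_f u))
noncomputable def dp_h_0 (j u : ℕ) : Bool :=
  Bool.rec (motive := fun _ => Bool) (lF [T_b, T_w, T_h, T_b] M (Nat.sub (T_h u) (Nat.mod (T_h u) M)) (Nat.mod (T_h u) M) u) (lF [T_c, T_w, T_h, T_c] M (Nat.sub (T_h u) (Nat.mod (T_h u) M)) (Nat.mod (T_h u) M) u) (Nat.ble (nat_lit 6) j)
noncomputable def dp_h_1 (j u : ℕ) : Bool :=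
  Bool.rec (motive := fun _ => Bool) (lH [] [] M (Nat.sub (T_h u) (Nat.mod (T_h u) M)) (Nat.mod (T_h u) M) u) (lF [T_f, T_h, T_f, T_w] M (Nat.sub (T_h u) (Nat.mod (T_h u) M)) (Nat.mod (T_h u) M) u) (Nat.ble (nat_lit 12) j)
noncomputable def dp_h_2 (j u : ℕ) : Bool :=
  Bool.rec (motive := fun _ => Bool) (lF [T_i, T_h, T_i, T_h, T_i] M (Nat.sub (T_h u) (Nat.mod (T_h u) M)) (Nat.mod (T_h u) M) u) (dp_h_1 j u) (Nat.ble (nat_lit 11) j)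
noncomputable def dp_h_3 (j u : ℕ) : Bool :=
  Bool.rec (motive := fun _ => Bool) (lF [T_d, T_h, T_d, T_h, T_d] M (Nat.sub (T_h u) (Nat.mod (T_h u) M)) (Nat.mod (T_h u) M) u) (dp_h_2 j u) (Nat.ble (nat_lit 10) j)
noncomputable def dp_h_4 (j u : ℕ) : Bool :=
  Bool.rec (motive := fun _ => Bool) (lF [T_e, T_w, T_h, T_e] M (Nat.sub (T_h u) (Nat.mod (T_h u) M)) (Nat.mod (T_h u) M) u) (dp_h_3 j u) (Nat.ble (nat_lit 9) j)
noncomputable def dp_h_5 (j u : ℕ) : Bool :=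
  Bool.rec (motive := fun _ => Bool) (lF [T_f, T_w, T_h, T_f] M (Nat.sub (T_h u) (Nat.mod (T_h u) M)) (Nat.mod (T_h u) M) u) (dp_h_4 j u) (Nat.ble (nat_lit 8) j)
noncomputable def dp_h_6 (j u : ℕ) : Bool :=
  Bool.rec (motive := fun _ => Bool) (lF3 T_u T_h T_ui M (Nat.sub (T_h u) (Nat.mod (T_h u) M)) (Nat.mod (T_h u) M) u) (Bool.rec (motive := fun _ => Bool) (dp_h_0 j u) (dp_h_5 j u) (Nat.ble (nat_lit 7) j)) (Nat.ble (nat_lit 5) j)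
noncomputable def dp_h_7 (j u : ℕ) : Bool :=
  Bool.rec (motive := fun _ => Bool) (lF3 T_ui T_h T_u M (Nat.sub (T_h u) (Nat.mod (T_h u) M)) (Nat.mod (T_h u) M) u) (dp_h_6 j u) (Nat.ble (nat_lit 4) j)
noncomputable def disp_h (j u : ℕ) : Bool :=
  Bool.rec (motive := fun _ => Bool) (Bool.rec (motive := fun _ => Bool) (lF1 T_h M (Nat.sub (T_h u) (Nat.mod (T_h u) M)) (Nat.mod (T_h u) M) u) (Bool.rec (motive := fun _ => Bool) (lDef P (nat_lit 5) (Nat.mod (T_h u) M) u) (lDef P (nat_lit 5) u (Nat.mod (T_h u) M)) (Nat.ble (nat_lit 2) j)) (Nat.ble (nat_lit 1) j)) (dp_h_7 j u) (Nat.ble (nat_lit 3) j)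
noncomputable def chk_h (j u : ℕ) : Bool :=
  Bool.rec (motive := fun _ => Bool) (disp_h j u) (Nat.ble (Nat.succ (MG u)) A) (Nat.ble A (T_h u))
noncomputable def dp_i_0 (j u : ℕ) : Bool :=
  Bool.rec (motive := fun _ => Bool) (lF [T_d, T_w, T_i, T_d] M (Nat.sub (T_i u) (Nat.mod (T_i u) M)) (Nat.mod (T_i u) M) u) (lF [T_f, T_w, T_i, T_f] M (Nat.sub (T_i u) (Nat.mod (T_i u) M)) (Nat.mod (T_i u) M) u) (Nat.ble (nat_lit 7) j)
noncomputable def dp_i_1 (j u : ℕ) : Bool :=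
  Bool.rec (motive := fun _ => Bool) (lF [T_b, T_w, T_i, T_b] M (Nat.sub (T_i u) (Nat.mod (T_i u) M)) (Nat.mod (T_i u) M) u) (lF [T_h, T_i, T_h, T_i, T_h] M (Nat.sub (T_i u) (Nat.mod (T_i u) M)) (Nat.mod (T_i u) M) u) (Nat.ble (nat_lit 10) j)
noncomputable def dp_i_2 (j u : ℕ) : Bool :=
  Bool.rec (motive := fun _ => Bool) (lF [T_c, T_w, T_i, T_c] M (Nat.sub (T_i u) (Nat.mod (T_i u) M)) (Nat.mod (T_i u) M) u) (dp_i_1 j u) (Nat.ble (nat_lit 9) j)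
noncomputable def dp_i_3 (j u : ℕ) : Bool :=
  Bool.rec (motive := fun _ => Bool) (dp_i_0 j u) (dp_i_2 j u) (Nat.ble (nat_lit 8) j)
noncomputable def disp_i (j u : ℕ) : Bool :=
  Bool.rec (motive := fun _ => Bool) (Bool.rec (motive := fun _ => Bool) (lDef P (nat_lit 6) (Nat.mod (T_i u) M) u) (Bool.rec (motive := fun _ => Bool) (lDef P (nat_lit 6) u (Nat.mod (T_i u) M)) (lF1 T_i M (Nat.sub (T_i u) (Nat.mod (T_i u) M)) (Nat.mod (T_i u) M) u) (Nat.ble (nat_lit 2) j)) (Nat.ble (nat_lit 1) j)) (Bool.rec (motive := fun _ => Bool) (lF3 T_ui T_i T_u M (Nat.sub (T_i u) (Nat.mod (T_i u) M)) (Nat.mod (T_i u) M) u) (Bool.rec (motive := fun _ => Bool) (Bool.rec (motive := fun _ => Bool) (lF3 T_u T_i T_ui M (Nat.sub (T_i u) (Nat.mod (T_i u) M)) (Nat.mod (T_i u) M) u) (lF [T_e, T_w, T_i, T_e] M (Nat.sub (T_i u) (Nat.mod (T_i u) M)) (Nat.mod (T_i u) M) u) (Nat.ble (nat_lit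 5) j)) (dp_i_3 j u) (Nat.ble (nat_lit 6) j)) (Nat.ble (nat_lit 4) j)) (Nat.ble (nat_lit 3) j)
noncomputable def chk_i (j u : ℕ) : Bool :=
  Bool.rec (motive := fun _ => Bool) (disp_i j u) (Nat.ble (Nat.succ (MG u)) A) (Nat.ble A (T_i u))
noncomputable def dp_w_0 (j u : ℕ) : Bool :=
  Bool.rec (motive := fun _ => Bool) (lF [T_b, T_i, T_b, T_i] M (Nat.sub (T_w u) (Nat.mod (T_w u) M)) (Nat.mod (T_w u) M) u) (lF3 T_u T_w T_ui M (Nat.sub (T_w u) (Nat.mod (T_w u) M)) (Nat.mod (T_w u) M) u) (Nat.ble (nat_lit 9) j)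
noncomputable def dp_w_1 (j u : ℕ) : Bool :=
  Bool.rec (motive := fun _ => Bool) (lF [T_d, T_b, T_d, T_b] M (Nat.sub (T_w u) (Nat.mod (T_w u) M)) (Nat.mod (T_w u) M) u) (dp_w_0 j u) (Nat.ble (nat_lit 8) j)
noncomputable def dp_w_2 (j u : ℕ) : Bool :=
  Bool.rec (motive := fun _ => Bool) (lF3 T_b T_w T_b M (Nat.sub (T_w u) (Nat.mod (T_w u) M)) (Nat.mod (T_w u) M) u) (dp_w_1 j u) (Nat.ble (nat_lit 7) j)
noncomputable def dp_w_3 (j u : ℕ) : Bool :=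
  Bool.rec (motive := fun _ => Bool) (lF3 T_c T_w T_c M (Nat.sub (T_w u) (Nat.mod (T_w u) M)) (Nat.mod (T_w u) M) u) (dp_w_2 j u) (Nat.ble (nat_lit 6) j)
noncomputable def disp_w (j u : ℕ) : Bool :=
  Bool.rec (motive := fun _ => Bool) (Bool.rec (motive := fun _ => Bool) (lF3 T_i T_w T_i M (Nat.sub (T_w u) (Nat.mod (T_w u) M)) (Nat.mod (T_w u) M) u) (lF3 T_h T_w T_h M (Nat.sub (T_w u) (Nat.mod (T_w u) M)) (Nat.mod (T_w u) M) u) (Nat.ble (nat_lit 1) j)) (Bool.rec (motive := fun _ => Bool) (Bool.rec (motive := fun _ => Bool) (lF3 T_d T_w T_d M (Nat.sub (T_w u) (Nat.mod (T_w u) M)) (Nat.mod (T_w u) M) u) (lF3 T_e T_w T_e M (Nat.sub (T_w u) (Nat.mod (T_w u) M)) (Nat.mod (T_w u) M) u) (Nat.ble (nat_lit 3) j)) (Bool.rec (motive := fun _ => Bool) (lF3 T_f T_w T_f M (Nat.sub (T_w u) (Nat.mod (T_w u) M)) (Nat.mod (T_w u) M) u) (dp_w_3 j u) (Nat.ble (nat_lit 5)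 j)) (Nat.ble (nat_lit 4) j)) (Nat.ble (nat_lit 2) j)
noncomputable def chk_w (j u : ℕ) : Bool :=
  Bool.rec (motive := fun _ => Bool) (disp_w j u) (Nat.ble (Nat.succ (MG u)) A) (Nat.ble A (T_w u))
noncomputable def dp_u_0 (j u : ℕ) : Bool :=
  Bool.rec (motive := fun _ => Bool) (lF3 T_d T_ui T_d M (Nat.sub (T_u u) (Nat.mod (T_u u) M)) (Nat.mod (T_u u) M) u) (lF3 T_e T_ui T_e M (Nat.sub (T_u u) (Nat.mod (T_u u) M)) (Nat.mod (T_u u) M) u) (Nat.ble (nat_lit 4) j)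
noncomputable def dp_u_1 (j u : ℕ) : Bool :=
  Bool.rec (motive := fun _ => Bool) (lF1 T_ui M (Nat.sub (T_u u) (Nat.mod (T_u u) M)) (Nat.mod (T_u u) M) u) (dp_u_0 j u) (Nat.ble (nat_lit 3) j)
noncomputable def dp_u_2 (j u : ℕ) : Bool :=
  Bool.rec (motive := fun _ => Bool) (lF3 T_c T_ui T_c M (Nat.sub (T_u u) (Nat.mod (T_u u) M)) (Nat.mod (T_u u) M) u) (lF3 T_h T_ui T_h M (Nat.sub (T_u u) (Nat.mod (T_u u) M)) (Nat.mod (T_u u) M) u) (Nat.ble (nat_lit 6) j)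
noncomputable def dp_u_3 (j u : ℕ) : Bool :=
  Bool.rec (motive := fun _ => Bool) (lF3 T_i T_ui T_i M (Nat.sub (T_u u) (Nat.mod (T_u u) M)) (Nat.mod (T_u u) M) u) (lF [T_u, T_u, T_u, T_u, T_u, T_u, T_u] M (Nat.sub (T_u u) (Nat.mod (T_u u) M)) (Nat.mod (T_u u) M) u) (Nat.ble (nat_lit 10) j)
noncomputable def dp_u_4 (j u : ℕ) : Bool :=
  Bool.rec (motive := fun _ => Bool) (lF3 T_f T_ui T_f M (Nat.sub (T_u u) (Nat.mod (T_u u) M)) (Nat.mod (T_u u) M) u) (dp_u_3 j u) (Nat.ble (nat_lit 9) j)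
noncomputable def dp_u_5 (j u : ℕ) : Bool :=
  Bool.rec (motive := fun _ => Bool) (lF3 T_b T_ui T_b M (Nat.sub (T_u u) (Nat.mod (T_u u) M)) (Nat.mod (T_u u) M) u) (dp_u_4 j u) (Nat.ble (nat_lit 8) j)
noncomputable def dp_u_6 (j u : ℕ) : Bool :=
  Bool.rec (motive := fun _ => Bool) (dp_u_2 j u) (dp_u_5 j u) (Nat.ble (nat_lit 7) j)
noncomputable def dp_u_7 (j u : ℕ) : Bool :=
  Bool.rec (motive := fun _ => Bool) (dp_u_1 j u) (dp_u_6 j u) (Nat.ble (nat_lit 5) j)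
noncomputable def dp_u_8 (j u : ℕ) : Bool :=
  Bool.rec (motive := fun _ => Bool) (lDef P (nat_lit 9) u (Nat.mod (T_u u) M)) (dp_u_7 j u) (Nat.ble (nat_lit 2) j)
noncomputable def disp_u (j u : ℕ) : Bool :=
  Bool.rec (motive := fun _ => Bool) (lDef P (nat_lit 8) (Nat.mod (T_u u) M) u) (dp_u_8 j u) (Nat.ble (nat_lit 1) j)
noncomputable def chk_u (j u : ℕ) : Bool :=
  Bool.rec (motive := fun _ => Bool) (disp_u j u) (Nat.ble (Nat.succ (MG u)) A) (Nat.ble A (T_u u))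
noncomputable def dp_ui_0 (j u : ℕ) : Bool :=
  Bool.rec (motive := fun _ => Bool) (lF3 T_d T_u T_d M (Nat.sub (T_ui u) (Nat.mod (T_ui u) M)) (Nat.mod (T_ui u) M) u) (lF3 T_c T_u T_c M (Nat.sub (T_ui u) (Nat.mod (T_ui u) M)) (Nat.mod (T_ui u) M) u) (Nat.ble (nat_lit 4) j)
noncomputable def dp_ui_1 (j u : ℕ) : Bool :=
  Bool.rec (motive := fun _ => Bool) (lF1 T_u M (Nat.sub (T_ui u) (Nat.mod (T_ui u) M)) (Nat.mod (T_ui u) M) u) (dp_ui_0 j u) (Nat.ble (nat_lit 3) j)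
noncomputable def dp_ui_2 (j u : ℕ) : Bool :=
  Bool.rec (motive := fun _ => Bool) (lF3 T_b T_u T_b M (Nat.sub (T_ui u) (Nat.mod (T_ui u) M)) (Nat.mod (T_ui u) M) u) (lF3 T_f T_u T_f M (Nat.sub (T_ui u) (Nat.mod (T_ui u) M)) (Nat.mod (T_ui u) M) u) (Nat.ble (nat_lit 6) j)
noncomputable def dp_ui_3 (j u : ℕ) : Bool :=
  Bool.rec (motive := fun _ => Bool) (lF3 T_h T_u T_h M (Nat.sub (T_ui u) (Nat.mod (T_ui u) M)) (Nat.mod (T_ui u) M) u) (lF3 T_i T_u T_i M (Nat.sub (T_ui u) (Nat.mod (T_ui u) M)) (Nat.mod (T_ui u) M) u) (Nat.ble (nat_lit 9) j)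
noncomputable def dp_ui_4 (j u : ℕ) : Bool :=
  Bool.rec (motive := fun _ => Bool) (lF3 T_e T_u T_e M (Nat.sub (T_ui u) (Nat.mod (T_ui u) M)) (Nat.mod (T_ui u) M) u) (dp_ui_3 j u) (Nat.ble (nat_lit 8) j)
noncomputable def dp_ui_5 (j u : ℕ) : Bool :=
  Bool.rec (motive := fun _ => Bool) (dp_ui_2 j u) (dp_ui_4 j u) (Nat.ble (nat_lit 7) j)
noncomputable def dp_ui_6 (j u : ℕ) : Bool :=
  Bool.rec (motive := fun _ => Bool) (dp_ui_1 j u) (dp_ui_5 j u) (Nat.ble (nat_lit 5) j)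
noncomputable def dp_ui_7 (j u : ℕ) : Bool :=
  Bool.rec (motive := fun _ => Bool) (lDef P (nat_lit 9) (Nat.mod (T_ui u) M) u) (dp_ui_6 j u) (Nat.ble (nat_lit 2) j)
noncomputable def disp_ui (j u : ℕ) : Bool :=
  Bool.rec (motive := fun _ => Bool) (lDef P (nat_lit 8) u (Nat.mod (T_ui u) M)) (dp_ui_7 j u) (Nat.ble (nat_lit 1) j)
noncomputable def chk_ui (j u : ℕ) : Bool :=
  Bool.rec (motive := fun _ => Bool) (disp_ui j u) (Nat.ble (Nat.succ (MG u)) A) (Nat.ble A (T_ui u))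
noncomputable def dM_0 (j z1 z2 u : ℕ) : Bool :=
  Bool.rec (motive := fun _ => Bool) (Bool.rec (motive := fun _ => Bool) (mCo MG T_u M (Nat.sub (MG u) (Nat.mod (MG u) M)) (nat_lit 40) z1 z2 u (Nat.mod (MG u) M)) (Bool.rec (motive := fun _ => Bool) (mCo MG T_ui M (Nat.sub (MG u) (Nat.mod (MG u) M)) (nat_lit 40) z1 z2 u (Nat.mod (MG u) M)) (mCo MG T_d M (Nat.sub (MG u) (Nat.mod (MG u) M)) (nat_lit 40) z1 z2 u (Nat.mod (MG u) M)) (Nat.ble (nat_lit 2) j)) (Nat.ble (nat_lit 1) j)) (Bool.rec (motive := fun _ => Bool) (Bool.rec (motive := fun _ => Bool) (mCo MG T_i M (Nat.sub (MG u) (Nat.mod (MG u) M)) (nat_lit 40) z1 z2 u (Nat.mod (MG u) M)) (Bool.rec (motive := fun _ => Bool) (mCo MG T_h M (Nat.sub (MG u) (Nat.mod (MG u) M)) (nat_lit 40) z1 z2 u (Nat.mod (MG u) M)) (mCo MG T_e M (Nat.sub (MG u) (Nat.mod (MG u) M)) (nat_lit 40) z1 z2 u (Nat.mod (MG u) M))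 (Nat.ble (nat_lit 5) j)) (Nat.ble (nat_lit 4) j)) (Bool.rec (motive := fun _ => Bool) (mCo MG T_b M (Nat.sub (MG u) (Nat.mod (MG u) M)) (nat_lit 40) z1 z2 u (Nat.mod (MG u) M)) (Bool.rec (motive := fun _ => Bool) (mCo MG T_c M (Nat.sub (MG u) (Nat.mod (MG u) M)) (nat_lit 40) z1 z2 u (Nat.mod (MG u) M)) (Bool.rec (motive := fun _ => Bool) (mCo MG T_f M (Nat.sub (MG u) (Nat.mod (MG u) M)) (nat_lit 40) z1 z2 u (Nat.mod (MG u) M)) (mRel MG [T_h, T_i, T_d, T_c, T_b, T_d, T_e, T_f, T_d, T_h, T_i, T_d, T_c, T_b, T_d, T_e, T_f, T_d, T_h, T_i, T_d, T_c, T_b, T_d, T_e, T_f, T_d, T_h, T_i, T_ui, T_d, T_c, T_b, T_d, T_e, T_f, T_d, T_h, T_i, T_d, T_c, T_b, T_d, T_e, T_f, T_d, T_h, T_i, T_d, T_c, T_b, T_d, T_e, T_f, T_d, T_h, T_i, T_d, T_c, T_b, T_d, T_e, T_f, T_d, T_h, T_i, T_d, T_c, T_b, T_d, T_e, T_f, T_d, T_h, T_i, T_d, T_c, T_b, T_d, T_e, T_f, T_d, T_h, T_i,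 T_d, T_c, T_b, T_d, T_e, T_f] [T_d] M (Nat.sub (MG u) (Nat.mod (MG u) M)) (nat_lit 40) z1 u (Nat.mod (MG u) M)) (Nat.ble (nat_lit 9) j)) (Nat.ble (nat_lit 8) j)) (Nat.ble (nat_lit 7) j)) (Nat.ble (nat_lit 6) j)) (Nat.ble (nat_lit 3) j)
noncomputable def chkM (u : ℕ) : Bool :=
  Bool.rec (motive := fun _ => Bool) (band (Nat.ble (Nat.succ (Nat.mod (MG u) M)) u) (dM_0 (Nat.land (MR u) (nat_lit 15)) (Nat.land (Nat.shiftRight (MR u) (nat_lit 4)) (nat_lit 8191)) (Nat.shiftRight (MR u) (nat_lit 17)) u)) true (Nat.ble A (MG u))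
noncomputable def chkN (u : ℕ) : Bool :=
  band (chk_b (Nat.land (Nat.shiftRight (RS u) (nat_lit 0)) (nat_lit 31)) u) (band (chk_c (Nat.land (Nat.shiftRight (RS u) (nat_lit 5)) (nat_lit 31)) u) (band (chk_d (Nat.land (Nat.shiftRight (RS u) (nat_lit 10)) (nat_lit 31)) u) (band (chk_e (Nat.land (Nat.shiftRight (RS u) (nat_lit 15)) (nat_lit 31)) u) (band (chk_f (Nat.land (Nat.shiftRight (RS u) (nat_lit 20)) (nat_lit 31)) u) (band (chk_h (Nat.land (Nat.shiftRight (RS u) (nat_lit 25)) (nat_lit 31)) u) (band (chk_i (Nat.land (Nat.shiftRight (RS u) (nat_lit 30)) (nat_lit 31)) u) (band (chk_w (Nat.land (Nat.shiftRight (RS u) (nat_lit 35)) (nat_lit 31)) u) (band (chk_u (Nat.land (Nat.shiftRight (RS u) (nat_lit 40)) (nat_lit 31)) u) (band (chk_ui (Nat.land (Nat.shiftRight (RS u) (nat_lit 45)) (nat_lit 31)) u) (chkM u))))))))))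
noncomputable def chkP (u : ℕ) : Bool := Bool.rec (motive := fun _ => Bool) (chkN u) true (Nat.ble M u)
noncomputable def liveP (u : ℕ) : Bool := Bool.rec (motive := fun _ => Bool) (Nat.ble A (MG u)) false (Nat.ble M u)
end H34.TCO7D
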